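import Groth.Agent.FlatModel.Open
import Groth.Agent.FlatModel.NoethCrit
import Groth.Agent.W4Lib.Flat
import Groth.Prelude.Def_EGA4b
import Mathlib

/-!
# Exactness of a complex of free modules in the fibres
-/

set_option autoImplicit false
set_option linter.style.haveILetI false

universe u

open TensorProduct

namespace Groth.Agent.FibreExact

section Reduce

variable {R A : Type u} [CommRing R] [CommRing A] [Algebra R A] (p : Ideal R)

/-- The expansion of an ideal of the base in a free module is computed coordinatewise. -/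
theorem mem_smul_top_pi {m : ℕ} (x : Fin m → A) :
    x ∈ p • (⊤ : Submodule R (Fin m → A)) ↔ ∀ j, x j ∈ p.map (algebraMap R A) := by
  refine ⟨fun h => ?_, fun h => ?_⟩
  · induction h using Submodule.smul_induction_on' with
    | smul r hr y _ =>
      intro j
      rw [Pi.smul_apply, Algebra.smul_def]
      exact Ideal.mul_mem_right _ _ (Ideal.mem_map_of_mem _ hr)
    | add y _ z _ hy hz => exact fun j => add_mem (hy j) (hz j)
  · rw [← Finset.univ_sum_single x]
    refine Submodule.sum_mem _ fun j _ => ?_
    have hsmul : ∀ (a : A) (y : Fin m → A), y ∈ p • (⊤ : Submodule R (Fin m → A)) →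
        a • y ∈ p • (⊤ : Submodule R (Fin m → A)) := fun a y hy => by
      induction hy using Submodule.smul_induction_on' with
      | smul r hr z _ => rw [smul_comm]; exact Submodule.smul_mem_smul hr trivial
      | add y _ z _ hy hz => rw [smul_add]; exact add_mem hy hz
    suffices ∀ c ∈ p.map (algebraMap R A), Pi.single j c ∈ p • (⊤ : Submodule R (Fin m → A)) from this _ (h j)
    intro c hc
    refine Submodule.span_induction (fun c hc => ?_) ?_ (fun c d _ _ hc hd => ?_) (fun a c _ hc => ?_) hc
    · obtain ⟨r, hr, rfl⟩ := hc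
      rw [show Pi.single (M := fun _ : Fin m => A) j (algebraMap R A r) = r • Pi.single j 1 from by
        rw [← Pi.single_smul', ← Algebra.algebraMap_eq_smul_one]]
      exact Submodule.smul_mem_smul hr trivial
    · rw [Pi.single_zero]; exact zero_mem _
    · rw [Pi.single_add]; exact add_mem hc hd
    · rw [Pi.single_smul']; exact hsmul a _ hc

/-- A submodule with flat quotient meets the expansion of an ideal in its own expansion. -/
theorem mem_smul_top_of_flat_quotient {V : Type u} [AddCommGroup V] [Module R V] (N : Submodule R V)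
    [Module.Flat R (V ⧸ N)] (y : N) (hy : (y : V) ∈ p • (⊤ : Submodule R V)) :
    y ∈ p • (⊤ : Submodule R N) := by
  rw [← S0393.one_tmul_eq_zero_iff] at hy ⊢
  exact W4Lib.lTensor_injective_of_flat_quotient (f := N.subtype) (g := N.mkQ) Subtype.val_injective
    (LinearMap.exact_subtype_mkQ N) N.mkQ_surjective (R ⧸ p) (hy.trans (map_zero _).symm)

end Reduce

section Local

variable {R A : Type u} [CommRing R] [CommRing A] [Algebra R A] (e : ℕ) (n : ℕ → ℕ)
  (ψ : (i : ℕ) → Matrix (Fin (n i)) (Fin (n (i + 1))) A)

/-- The submodule that the kernel of the `i`-th map must agree with. -/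
noncomputable def imgSub (i : ℕ) : Submodule A (Fin (n (i + 1)) → A) :=
  if i + 2 ≤ e then LinearMap.range (ψ (i + 1)).mulVecLin else ⊥

variable (hψ : ∀ i, i + 2 ≤ e → ψ i * ψ (i + 1) = 0)

include hψ in
theorem imgSub_le_ker (i : ℕ) : imgSub e n ψ i ≤ LinearMap.ker (ψ i).mulVecLin := by
  unfold imgSub
  split_ifs with h
  · rintro _ ⟨w, rfl⟩
    rw [LinearMap.mem_ker, Matrix.mulVecLin_apply, Matrix.mulVecLin_apply, Matrix.mulVec_mulVec, hψ i h,
      Matrix.zero_mulVec]
  · exact bot_le

include hψ in
/-- Exactness is the inclusion of the kernels in the images. -/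
theorem exact_iff :
    ((∀ i, i + 2 ≤ e → LinearMap.ker (ψ i).mulVecLin = LinearMap.range (ψ (i + 1)).mulVecLin) ∧
      (1 ≤ e → Function.Injective (ψ (e - 1)).mulVecLin)) ↔
      ∀ i, i < e → LinearMap.ker (ψ i).mulVecLin ≤ imgSub e n ψ i := by
  refine ⟨fun ⟨h1, h2⟩ i hi => ?_, fun h => ⟨fun i hi => ?_, fun he => ?_⟩⟩
  · unfold imgSub
    split_ifs with h
    · exact (h1 i h).le
    · obtain rfl : i = e - 1 := by omega
      exact (LinearMap.ker_eq_bot.2 (h2 (by omega))).le
  · have := imgSub_le_ker e n ψ hψ i
    have h' := h i (by omega)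
    rw [imgSub, if_pos hi] at this h'
    exact le_antisymm h' this
  · have h' := h (e - 1) (by omega)
    rw [imgSub, if_neg (by omega), le_bot_iff] at h'
    exact LinearMap.ker_eq_bot.1 h'

variable [IsLocalRing A] [IsNoetherianRing A] (p : Ideal R) [p.IsPrime]
  (hp : p = (IsLocalRing.maximalIdeal A).comap (algebraMap R A)) [Module.Flat R A]
  (J : Ideal A) (hJ : J = p.map (algebraMap R A))

/-- The reduction of the complex. -/
def red (i : ℕ) : Matrix (Fin (n i)) (Fin (n (i + 1))) (A ⧸ J) := (ψ i).map (Ideal.Quotient.mk J)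

omit [IsLocalRing A] [IsNoetherianRing A] [Algebra R A] in
theorem red_comm (i : ℕ) (x : Fin (n (i + 1)) → A) :
    (red n ψ J i).mulVecLin (Ideal.Quotient.mk J ∘ x) = Ideal.Quotient.mk J ∘ (ψ i).mulVecLin x :=
  funext fun j => (RingHom.map_mulVec (Ideal.Quotient.mk J) (ψ i) x j).symm

include hJ in
omit [IsLocalRing A] [IsNoetherianRing A] [p.IsPrime] [Module.Flat R A] in
theorem red_eq_zero_iff {m : ℕ} (x : Fin m → A) :
    Ideal.Quotient.mk J ∘ x = 0 ↔ x ∈ p • (⊤ : Submodule R (Fin m → A)) := by
  rw [mem_smul_top_pi, funext_iff, ← hJ]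
  exact forall_congr' fun j => Ideal.Quotient.eq_zero_iff_mem

include hp hJ hψ in
/-- A complex exact in the fibre is exact with flat cokernels. -/
theorem flat_of_red (h : ∀ i, i < e → LinearMap.ker (red n ψ J i).mulVecLin ≤ imgSub e n (red n ψ J) i) :
    ∀ (k i : ℕ), i < e → e ≤ i + k →
      Module.Flat R ((Fin (n i) → A) ⧸ LinearMap.range (ψ i).mulVecLin) ∧
        LinearMap.ker (ψ i).mulVecLin ≤ imgSub e n ψ i := by
  intro k
  induction k with
  | zero => intro i hi hk; omega
  | succ k ih =>
    intro i hi hk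
    haveI : Module.Flat R (Fin (n i) → A) := Module.Flat.trans R A (Fin (n i) → A)
    by_cases h2 : i + 2 ≤ e
    · have hle : LinearMap.range (ψ (i + 1)).mulVecLin ≤ LinearMap.ker (ψ i).mulVecLin := by
        have := imgSub_le_ker e n ψ hψ i
        rwa [imgSub, if_pos h2] at this
      obtain ⟨hflat, -⟩ := ih (i + 1) (by omega) (by omega)
      haveI := hflat
      let u := (LinearMap.range (ψ (i + 1)).mulVecLin).liftQ (ψ i).mulVecLin hle
      obtain ⟨hinj, hC⟩ := FlatModel.injective_flat_of_prime p hp u (by
        intro z hz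
        obtain ⟨x, rfl⟩ := Submodule.Quotient.mk_surjective _ z
        have hb : (red n ψ J i).mulVecLin (Ideal.Quotient.mk J ∘ x) = 0 := by
          rw [red_comm, red_eq_zero_iff p J hJ]
          exact hz
        have hx := h i hi (LinearMap.mem_ker.2 hb)
        rw [imgSub, if_pos h2] at hx
        obtain ⟨w', hw'⟩ := hx
        choose w hw using fun j => Ideal.Quotient.mk_surjective (w' j)
        obtain rfl : Ideal.Quotient.mk J ∘ w = w' := funext hw
        rw [red_comm] at hw'
        have hxw : x - (ψ (i + 1)).mulVecLin w ∈ p • (⊤ : Submodule R (Fin (n (i + 1)) → A)) := by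
          rw [← red_eq_zero_iff p J hJ]
          exact funext fun j => by
            simp only [Function.comp_apply, Pi.sub_apply, map_sub, Pi.zero_apply]
            exact sub_eq_zero.2 (congrFun hw' j).symm
        have h3 := Submodule.mem_map_of_mem
          (f := ((LinearMap.range (ψ (i + 1)).mulVecLin).mkQ).restrictScalars R) hxw
        rw [Submodule.map_smul''] at h3
        have h4 : Submodule.Quotient.mk (p := LinearMap.range (ψ (i + 1)).mulVecLin) x =
            Submodule.Quotient.mk (x - (ψ (i + 1)).mulVecLin w) :=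
          (Submodule.Quotient.eq _).2 (by rw [sub_sub_cancel]; exact LinearMap.mem_range_self _ w)
        rw [h4]
        exact Submodule.smul_mono le_rfl le_top h3)
      rw [Submodule.range_liftQ] at hC
      refine ⟨hC, fun x hx => ?_⟩
      rw [imgSub, if_pos h2]
      exact (Submodule.Quotient.mk_eq_zero _).1 (hinj (show u (Submodule.Quotient.mk x) = u 0 by
        rw [map_zero]; exact hx))
    · obtain ⟨hinj, hC⟩ := FlatModel.injective_flat_of_prime p hp (ψ i).mulVecLin (by
        intro x hx
        rw [← red_eq_zero_iff p J hJ] at hx ⊢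
        rw [← red_comm] at hx
        have := h i hi (LinearMap.mem_ker.2 hx)
        rw [imgSub, if_neg h2] at this
        exact (Submodule.mem_bot _).1 this)
      exact ⟨hC, (LinearMap.ker_eq_bot.2 hinj).le.trans bot_le⟩

include hJ in
omit [IsLocalRing A] [IsNoetherianRing A] [p.IsPrime] [Module.Flat R A] in
/-- A complex exact with flat cokernels is exact in the fibre. -/
theorem red_of_flat (i : ℕ) (hflat : Module.Flat R ((Fin (n i) → A) ⧸ LinearMap.range (ψ i).mulVecLin))
    (h : LinearMap.ker (ψ i).mulVecLin ≤ imgSub e n ψ i) :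
    LinearMap.ker (red n ψ J i).mulVecLin ≤ imgSub e n (red n ψ J) i := by
  intro y hy
  choose x hx using fun j => Ideal.Quotient.mk_surjective (y j)
  obtain rfl : Ideal.Quotient.mk J ∘ x = y := funext hx
  rw [LinearMap.mem_ker, red_comm, red_eq_zero_iff p J hJ] at hy
  let N := (LinearMap.range (ψ i).mulVecLin).restrictScalars R
  haveI : Module.Flat R ((Fin (n i) → A) ⧸ N) :=
    Module.Flat.of_linearEquiv (Submodule.Quotient.restrictScalarsEquiv R (LinearMap.range (ψ i).mulVecLin))
  let f : (Fin (n (i + 1)) → A) →ₗ[R] N :=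
    ((ψ i).mulVecLin.restrictScalars R).codRestrict N fun z => LinearMap.mem_range_self _ z
  have hy' := mem_smul_top_of_flat_quotient p N (f x) hy
  have hsurj : Function.Surjective f := by
    rintro ⟨_, z, rfl⟩
    exact ⟨z, rfl⟩
  rw [← LinearMap.range_eq_top.2 hsurj, LinearMap.range_eq_map, ← Submodule.map_smul''] at hy'
  obtain ⟨z, hz, hzx⟩ := hy'
  have hker := h (show x - z ∈ LinearMap.ker (ψ i).mulVecLin by
    rw [LinearMap.mem_ker, map_sub, sub_eq_zero]
    exact (congrArg Subtype.val hzx).symm)
  have he : Ideal.Quotient.mk J ∘ (x - z) = Ideal.Quotient.mk J ∘ x := funext fun j => by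
    simp only [Function.comp_apply, Pi.sub_apply, map_sub, sub_eq_self]
    exact congrFun ((red_eq_zero_iff p J hJ z).2 hz) j
  rw [← he]
  unfold imgSub at hker ⊢
  split_ifs at hker ⊢ with h2
  · obtain ⟨w, hw⟩ := hker
    exact ⟨Ideal.Quotient.mk J ∘ w, by rw [red_comm, hw]⟩
  · rw [(Submodule.mem_bot _).1 hker]
    exact (Submodule.mem_bot _).2 (funext fun _ => map_zero _)

end Local

end Groth.Agent.FibreExact
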